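import Mathlib
import Cfsg.Agent.Lib.Flavell.Pair
import Cfsg.Agent.Lib.Flavell.FixedElt
import Cfsg.Agent.Lib.Coprime.Action

/-!
Fixed opposite pairs and fixed partners for a solvable coprime group of operators.
-/

set_option autoImplicit false
set_option linter.unusedSectionVars false
set_option linter.style.haveILetI false

namespace CfsgLib.Flavell

open Cfsg CfsgLib.ThreeTransp

variable {k : Type*} [Field k] {M : Type*} [AddCommGroup M] [Module k M] [FiniteDimensional k M]
variable {G R : Subgroup (LinearMap.GeneralLinearGroup k M)}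

local notation "GLM" => LinearMap.GeneralLinearGroup k M
local notation "EndM" => Module.End k M

theorem le_normalizer_of_conj_le {X : Type*} [Group X] {R U : Subgroup X}
    (h : ∀ g ∈ R, conjBy U g ≤ U) : R ≤ Subgroup.normalizer (U : Set X) := fun g hg => by
  refine conjBy_eq_self_iff.1 (le_antisymm (h g hg) ?_)
  conv_lhs => rw [← conjBy_conjBy_inv U g]
  exact conjBy_mono g (h g⁻¹ (inv_mem hg))

/-- Glauberman's lemma for a class of subgroups. -/
theorem exists_fixed_conj {X : Type*} [Group X] [Finite X] {R₁ T : Subgroup X}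
    (hR : Group.IsSolvable R₁) (hcop : (Nat.card R₁).Coprime (Nat.card T))
    (hRT : R₁ ≤ Subgroup.normalizer (T : Set X)) (A : Subgroup X)
    (hinv : ∀ g ∈ R₁, ∀ B ∈ {B : Subgroup X | ∃ t ∈ T, B = conjBy A t},
      conjBy B g ∈ {B : Subgroup X | ∃ t ∈ T, B = conjBy A t}) :
    ∃ B ∈ {B : Subgroup X | ∃ t ∈ T, B = conjBy A t}, ∀ g ∈ R₁, conjBy B g = B := by
  letI : MulAction X (Subgroup X) := MulAction.compHom _ conjPerm
  obtain ⟨t, ht, h⟩ := CfsgLib.Coprime.exists_fixed_point hRT hcop (Or.inl hR) A fun g hg => by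
    obtain ⟨t, ht, e⟩ := hinv g hg A ⟨1, one_mem T, (conjBy_one A).symm⟩
    exact ⟨t, ht, e.symm⟩
  exact ⟨conjBy A t, ⟨t, ht, rfl⟩, h⟩

theorem two_dvd_card_of_linked [Finite GLM] (h2 : (2 : k) ≠ 0) (h3 : Nat.card k ≠ 3) {a f : EndM}
    (ha : QMin G a) (hf : QMin G f) (hl : Linked a f) : 2 ∣ Nat.card G := by
  obtain ⟨i, ⟨hi, hi1, hi2, -⟩, -⟩ := linked_involution h2 h3 ha hf hl
  have hiG : i ∈ G := sup_le (eGrp_le ha) (eGrp_le hf) hi
  have hord : orderOf (⟨i, hiG⟩ : G) = 2 :=
    orderOf_eq_prime (Subtype.ext (by rw [sq]; exact hi2)) fun e => hi1 (congrArg Subtype.val e)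
  exact hord ▸ orderOf_dvd_natCard _

theorem odd_card_of_coprime {m n d : ℕ} (h : m.Coprime n) (hd : d ∣ n) (h2 : 2 ∣ d) : Odd m := by
  refine Nat.not_even_iff_odd.1 fun hm => ?_
  have := Nat.eq_one_of_dvd_coprimes h (even_iff_two_dvd.1 hm) (h2.trans hd)
  omega

theorem odd_card_of_linked [Finite GLM] (h2 : (2 : k) ≠ 0) (h3 : Nat.card k ≠ 3) {a f : EndM}
    (ha : QMin G a) (hf : QMin G f) (hl : Linked a f) {R₁ : Subgroup GLM}
    (hcop : (Nat.card R₁).Coprime (Nat.card G)) : Odd (Nat.card R₁) :=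
  odd_card_of_coprime hcop dvd_rfl (two_dvd_card_of_linked h2 h3 ha hf hl)

section pairs

variable {p : ℕ} [Fact p.Prime] [CharP k p]

/-- A class contains a pair of opposite root subgroups fixed by the operators fixing the class. -/
theorem exists_fixed_pair_of_solvable [Finite GLM] (h2 : (2 : k) ≠ 0) (h3 : Nat.card k ≠ 3) {l : k} (hl0 : l ≠ 0)
    (hl1 : l ≠ 1) (hl2 : l * l ≠ 1) (hG : NoPCore p G) (hRs : Group.IsSolvable R)
    (hn : R ≤ Subgroup.normalizer (G : Set GLM)) (hcop : (Nat.card R).Coprime (Nat.card G))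
    {a : EndM} (ha : QMin G a) :
    ∃ (a0 f : EndM) (ha0 : QMin G a0) (hf : QMin G f), Linked a0 f ∧
      eGrp G a0 ha0 ∈ rootCls G (eGrp G a ha) ∧
      ∀ g ∈ R, conjBy (eGrp G a ha) g ∈ rootCls G (eGrp G a ha) →
        conjBy (eGrp G a0 ha0) g = eGrp G a0 ha0 ∧ conjBy (eGrp G f hf) g = eGrp G f hf := by
  set C := rootCls G (eGrp G a ha) with hC
  let R₁ : Subgroup GLM :=
    { carrier := {g | g ∈ R ∧ conjBy (eGrp G a ha) g ∈ C}
      one_mem' := ⟨one_mem R, by rw [conjBy_one]; exact self_mem_rootCls _⟩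
      mul_mem' := fun {g g'} hg hg' => ⟨mul_mem hg.1 hg'.1, by
        rw [conjBy_mul]
        exact rootCls_trans hg.2 (rootCls_conj (hn hg.1) hg'.2)⟩
      inv_mem' := fun {g} hg => ⟨inv_mem hg.1, by
        have h := rootCls_conj (hn (inv_mem hg.1)) hg.2
        rw [conjBy_inv_conjBy] at h
        exact rootCls_symm h⟩ }
  have hR₁ : R₁ ≤ R := fun g hg => hg.1
  obtain ⟨A0, ⟨t, ht, rfl⟩, hfix⟩ := exists_fixed_conj (CfsgLib.Coprime.isSolvable_of_le hR₁ hRs)
    ((hcop.coprime_dvd_left (Subgroup.card_dvd_of_le hR₁)).coprime_dvd_right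
      (Subgroup.card_dvd_of_le qG0_le)) (T := qG0 G) (R₁ := R₁)
    (fun g hg => conjBy_eq_self_iff.1 (conjBy_qG0 (hn hg.1))) (eGrp G a ha)
    fun g hg B hB => rootCls_trans hg.2 (rootCls_conj (hn hg.1) hB)
  have htN : t ∈ Subgroup.normalizer (G : Set GLM) := Subgroup.le_normalizer (qG0_le ht)
  set a0 := eConj t a with ha0def
  have ha0 : QMin G a0 := qmin_conjN ha htN
  have eA : conjBy (eGrp G a ha) t = eGrp G a0 ha0 := conjBy_eGrpN ha htN
  rw [eA] at hfix
  have hcls : eGrp G a0 ha0 ∈ C := eA ▸ ⟨t, ht, rfl⟩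
  have hmem : ∀ {x : EndM} (hx : QMin G x), eGrp G x hx ≤ qG0 G := fun hx =>
    le_qG0 (mem_quadraticRootSubgroups.2 ⟨_, hx, rfl⟩)
  have hTG : qG0 G ≤ G := qG0_le
  set T := qG0 G with hT
  set U := flagGrp a0 ha0.sq ⊓ T with hU
  have key : ∀ g ∈ R₁, conjBy U g ≤ U := by
    intro g hg
    have he := hfix g hg
    rw [conjBy_eGrpN ha0 (hn hg.1)] at he
    obtain ⟨er, ek⟩ := eGrp_inj he
    refine le_inf ?_ ?_
    · refine (conjBy_mono g inf_le_left).trans ?_
      rintro _ ⟨v, ⟨v1, v2, v3⟩, rfl⟩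
      have e : udif ((MulAut.conj g).toMonoidHom v) = (g : EndM) * udif v * ((g⁻¹ : GLM) : EndM) := by
        show udif (g * v * g⁻¹) = _
        simp only [udif, Units.val_mul, sub_mul, mul_sub, mul_one, Units.mul_inv]
      refine ⟨?_, ?_, ?_⟩
      · rintro _ ⟨m, rfl⟩
        rw [e, Module.End.mul_apply, Module.End.mul_apply, ← ek, mem_ker_eConj, ← Module.End.mul_apply,
          Units.inv_mul, Module.End.one_apply]
        exact v1 ⟨_, rfl⟩
      · rintro _ ⟨m, hm, rfl⟩
        rw [e, Module.End.mul_apply, Module.End.mul_apply, ← er, range_eConj]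
        rw [SetLike.mem_coe, ← ek, mem_ker_eConj] at hm
        exact Submodule.mem_map_of_mem (v2 ⟨_, hm, rfl⟩)
      · intro m hm
        rw [← er, range_eConj] at hm
        obtain ⟨z, hz, rfl⟩ := hm
        rw [LinearMap.mem_ker, e, Module.End.mul_apply, Module.End.mul_apply,
          ← Module.End.mul_apply ((g⁻¹ : GLM) : EndM), Units.inv_mul, Module.End.one_apply,
          LinearMap.mem_ker.1 (v3 hz), map_zero]
    · exact (conjBy_mono g inf_le_right).trans (le_of_eq (conjBy_qG0 (hn hg.1)))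
  obtain ⟨w, hw, hlw⟩ := exists_linked' h2 h3 hG ha0
  set b0 := eConj w a0
  have hb0 : QMin G b0 := ha0.conj hw
  have hlb : Linked a0 b0 := hlw.symm
  have horb : ∀ B : Subgroup GLM, (∃ v ∈ U, B = conjBy (eGrp G b0 hb0) v) ↔
      ∃ y, ∃ hy : QMin G y, Linked a0 y ∧ B = eGrp G y hy := by
    intro B
    constructor
    · rintro ⟨v, hv, rfl⟩
      have hvG : v ∈ G := hTG hv.2
      refine ⟨_, _, ?_, conjBy_eGrp hb0 hvG⟩
      obtain ⟨v1, v2, v3⟩ := hv.1
      have hfixv : ∀ m ∈ LinearMap.range a0, (v : EndM) m = m := fun m hm => by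
        have := LinearMap.mem_ker.1 (v3 hm)
        rwa [udif, LinearMap.sub_apply, Module.End.one_apply, sub_eq_zero] at this
      have hker : ∀ m ∈ LinearMap.ker a0, (v : EndM) m ∈ LinearMap.ker a0 := fun m hm => by
        have h1 := range_le_ker_of_sq ha0.sq (v2 ⟨m, hm, rfl⟩)
        have h2 : (v : EndM) m = udif v m + m := by
          rw [udif, LinearMap.sub_apply, Module.End.one_apply, sub_add_cancel]
        rw [h2]; exact add_mem h1 hm
      have hl' := linked_eConj (g := v) hlb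
      refine (linked_congr ?_ ?_ rfl rfl).1 hl'
      · refine (Submodule.eq_of_le_of_finrank_le (fun m hm => ?_) ?_).symm
        · rw [range_eConj]; exact ⟨m, hm, hfixv m hm⟩
        · exact le_of_eq (erk_eConj v a0)
      · refine (Submodule.eq_of_le_of_finrank_le (fun m hm => ?_) ?_).symm
        · rw [mem_ker_eConj]
          have hinj : Function.Injective ((v : EndM).restrict hker) := fun x y e => Subtype.ext (by
            have := congrArg ((v⁻¹ : GLM) : EndM) (congrArg Subtype.val e)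
            simpa [← Module.End.mul_apply] using this)
          obtain ⟨x, hx⟩ := LinearMap.injective_iff_surjective.1 hinj ⟨m, hm⟩
          have e : (v : EndM) x.1 = m := congrArg Subtype.val hx
          rw [← e, ← Module.End.mul_apply, Units.inv_mul, Module.End.one_apply]
          exact x.2
        · have h4 := LinearMap.finrank_range_add_finrank_ker (eConj v a0)
          have h5 := LinearMap.finrank_range_add_finrank_ker a0
          have h6 := erk_eConj v a0
          simp only [erk] at h6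
          omega
    · rintro ⟨y, hy, hl, rfl⟩
      obtain ⟨v, hv, r1, r2⟩ := linked_transitive h2 h3 ha0 hb0 hy hlb hl hl0 hl1 hl2 (hmem ha0)
        (hmem hb0) (hmem hy)
      exact ⟨v, hv, by rw [conjBy_eGrp hb0 (hTG hv.2)]; exact eGrp_congr r1.symm r2.symm⟩
  obtain ⟨F, hF, hFfix⟩ := exists_fixed_conj (CfsgLib.Coprime.isSolvable_of_le hR₁ hRs)
    ((hcop.coprime_dvd_left (Subgroup.card_dvd_of_le hR₁)).coprime_dvd_right
      (Subgroup.card_dvd_of_le (inf_le_right.trans hTG))) (R₁ := R₁) (T := U)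
    (fun g hg => le_normalizer_of_conj_le key hg)
    (eGrp G b0 hb0) fun g hg B hB => by
      obtain ⟨y, hy, hl, rfl⟩ := (horb B).1 hB
      refine (horb _).2 ⟨_, _, ?_, conjBy_eGrpN hy (hn hg.1)⟩
      have he := hfix g hg
      rw [conjBy_eGrpN ha0 (hn hg.1)] at he
      obtain ⟨er, ek⟩ := eGrp_inj he
      exact (linked_congr er ek rfl rfl).1 (linked_eConj hl)
  obtain ⟨f, hf, hlf, rfl⟩ := (horb F).1 hF
  exact ⟨a0, f, ha0, hf, hlf, hcls, fun g hg hC' => ⟨hfix g ⟨hg, hC'⟩, hFfix g ⟨hg, hC'⟩⟩⟩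

end pairs

variable [Finite k] {R₁ : Subgroup (LinearMap.GeneralLinearGroup k M)}

/-- An `r`-group of odd order which fixes two opposite classes fixes a pair of partners in them. -/
theorem exists_fixed_elements_of_solvable (h2 : (2 : k) ≠ 0) (h3 : Nat.card k ≠ 3) {a f : EndM}
    (ha : QMin G a) (hf : QMin G f) (hl : Linked a f)
    (hRs : Group.IsSolvable R₁) (hn : R₁ ≤ Subgroup.normalizer (G : Set GLM))
    (hcop : (Nat.card R₁).Coprime (Nat.card G))
    (hA : ∀ g ∈ R₁, conjBy (eGrp G a ha) g = eGrp G a ha)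
    (hF : ∀ g ∈ R₁, conjBy (eGrp G f hf) g = eGrp G f hf) :
    ∃ e ∈ eSpace G a ha.sq, ∃ f' ∈ eSpace G f hf.sq, e ≠ 0 ∧ e * f' * e = e ∧ f' * e * f' = f' ∧
      ∀ g ∈ R₁, eConj g e = e ∧ eConj g f' = f' := by
  classical
  haveI : Finite M := Module.finite_of_finite k
  haveI : Finite EndM := Finite.of_injective (DFunLike.coe : (M →ₗ[k] M) → M → M) DFunLike.coe_injective
  haveI : Finite GLM := Finite.of_injective (fun g : GLM => (g : EndM)) Units.val_injective
  haveI := Fintype.ofFinite (Module.End k M)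
  -- elements fixing a class act on its space
  have act : ∀ {b : EndM} (hb : QMin G b) {g : GLM}, conjBy (eGrp G b hb) g = eGrp G b hb →
      ∀ x ∈ eSpace G b hb.sq, eConj g x ∈ eSpace G b hb.sq := by
    intro b hb g hg x hx
    have h : g * qel x * g⁻¹ ∈ eGrp G b hb := hg ▸ ⟨qel x, qel_mem_eGrp hb hx, rfl⟩
    rw [qel_conj hx.1.1] at h
    have := (udif_mem_eSpace hb h).1
    rwa [udif_qel (eConj_sq hx.1.1)] at this
  set A := eGrp G a ha with hAdef
  set N := G ⊓ Subgroup.normalizer (A : Set GLM) with hN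
  let O : EndM → Set EndM := fun z => {v | ∃ g ∈ N, v = eConj g z}
  have hNfix : ∀ g ∈ N, conjBy A g = A := fun g hg => conjBy_eq_self_iff.2 hg.2
  -- sizes
  have hOdvd : ∀ z, Nat.card (O z) ∣ Nat.card G := by
    intro z
    let N' : Subgroup (Equiv.Perm EndM) := N.map eConjPerm
    have h : O z = MulAction.orbit N' z := by
      ext v
      constructor
      · rintro ⟨g, hg, rfl⟩; exact ⟨⟨eConjPerm g, g, hg, rfl⟩, rfl⟩
      · rintro ⟨⟨_, g, hg, rfl⟩, rfl⟩; exact ⟨g, hg, rfl⟩
    rw [h, Nat.card_coe_set_eq, ← MulAction.index_stabilizer]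
    exact ((Subgroup.index_dvd_card _).trans (Subgroup.card_map_dvd _ _)).trans
      (Subgroup.card_dvd_of_le inf_le_left)
  obtain ⟨f₀, hf₀, hf₀0, c1, c2⟩ := exists_partner_elt ha hf hl h2 h3 (self_mem_eSpace ha) ha.2.1
  obtain ⟨-, wa, wG⟩ := swap_conj ha hf (self_mem_eSpace ha) hf₀ c1 c2 ha.2.1 hf₀0
  let A' : Finset EndM := Finset.univ.filter fun z => z ∈ eSpace G a ha.sq ∧ z ≠ 0
  have hA' : ∀ {z}, z ∈ A' ↔ z ∈ eSpace G a ha.sq ∧ z ≠ 0 := by simp [A']
  have hOsub : ∀ z ∈ A', ∀ v ∈ O z, v ∈ A' := by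
    rintro z hz v ⟨g, hg, rfl⟩
    exact hA'.2 ⟨act ha (hNfix g hg) z (hA'.1 hz).1, fun e => (hA'.1 hz).2 (eConj_eq_zero e)⟩
  have hlarge : ∀ z ∈ A', A'.card ≤ 2 * Nat.card (O z) := by
    intro z hz
    obtain ⟨hzA, hz0⟩ := hA'.1 hz
    set u := f₀ * z * f₀ with hu
    have hu' : u ∈ eSpace G f hf.sq := sandwich_mem hf ha hl.symm h2 h3 hf₀ hzA
    have hu0 : u ≠ 0 := fun e => hz0 (sandwich_inj hf ha hl.symm hf₀ hf₀0 hzA e)
    have hmem : ∀ x ∈ A', x * u * x ∈ (O z).toFinite.toFinset := by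
      intro x hx
      obtain ⟨hxA, hx0⟩ := hA'.1 hx
      obtain ⟨y, hy, hy0, e1, e2⟩ := exists_partner_elt ha hf hl h2 h3 hxA hx0
      obtain ⟨xa, -, xG⟩ := swap_conj ha hf hxA hy e1 e2 hx0 hy0
      refine (Set.Finite.mem_toFinset _).2 ⟨qel x * qel (-y) * qel x * (qel a * qel (-f₀) * qel a),
        ⟨mul_mem xG wG, ?_⟩, ?_⟩
      · have hval : ∀ v ∈ eSpace G a ha.sq, eConj (qel x * qel (-y) * qel x * (qel a * qel (-f₀) * qel a)) v =
            x * (f₀ * v * f₀) * x := by
          intro v hv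
          rw [← eConj_comp, wa v hv, eConj_neg, xa _ (sandwich_mem hf ha hl.symm h2 h3 hf₀ hv), neg_neg]
        have h0 := hval a (self_mem_eSpace ha)
        refine conjBy_eq_self_iff.1 ?_
        rw [hAdef, conjBy_eGrp ha (mul_mem xG wG)]
        have hm : eConj (qel x * qel (-y) * qel x * (qel a * qel (-f₀) * qel a)) a ∈ eSpace G a ha.sq := by
          rw [h0]
          exact sandwich_mem ha hf hl h2 h3 hxA (sandwich_mem hf ha hl.symm h2 h3 hf₀ (self_mem_eSpace ha))
        obtain ⟨-, r1, r2⟩ := eSpace_data ha hm fun e => ha.2.1 (eConj_eq_zero e)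
        exact eGrp_congr r1 r2
      · rw [← eConj_comp, wa z hzA, eConj_neg, xa _ hu', neg_neg]
    have h1 : A'.card ≤ 2 * (A'.image fun x => x * u * x).card := by
      refine Finset.card_le_mul_card_image _ 2 fun v hv => ?_
      obtain ⟨x, hx, rfl⟩ := Finset.mem_image.1 hv
      refine le_trans (Finset.card_le_card (t := {x, -x}) fun t ht => ?_) Finset.card_le_two
      rw [Finset.mem_filter] at ht
      simpa using sandwich_two_to_one ha hf hl h2 h3 (hA'.1 ht.1).1 (hA'.1 hx).1 hu' hu0 ht.2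
    have h4 : (A'.image fun x => x * u * x).card ≤ (O z).toFinite.toFinset.card :=
      Finset.card_le_card fun v hv => by
        obtain ⟨x, hx, rfl⟩ := Finset.mem_image.1 hv
        exact hmem x hx
    rw [Nat.card_coe_set_eq, Set.ncard_eq_toFinset_card _ (O z).toFinite]
    omega
  have hrefl : ∀ z, z ∈ O z := fun z => ⟨1, one_mem _, (eConj_one z).symm⟩
  have hOeq : ∀ {z v}, v ∈ O z → O v = O z := by
    rintro z v ⟨g, hg, rfl⟩
    ext w
    constructor
    · rintro ⟨h, hh, rfl⟩; exact ⟨h * g, mul_mem hh hg, eConj_comp h g z⟩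
    · rintro ⟨h, hh, rfl⟩
      exact ⟨h * g⁻¹, mul_mem hh (inv_mem hg), by rw [eConj_comp, inv_mul_cancel_right]⟩
  have hOconj : ∀ {g : GLM}, g ∈ R₁ → ∀ {z v}, v ∈ O z → eConj g v ∈ O (eConj g z) := by
    rintro g hg z v ⟨h, ⟨hh1, hh2⟩, rfl⟩
    have hgA : g ∈ Subgroup.normalizer (A : Set GLM) := conjBy_eq_self_iff.1 (hA g hg)
    refine ⟨g * h * g⁻¹, ⟨(Subgroup.mem_normalizer_iff.1 (hn hg) h).1 hh1,
      mul_mem (mul_mem hgA hh2) (Subgroup.inv_mem _ hgA)⟩, ?_⟩
    rw [eConj_comp, eConj_comp, inv_mul_cancel_right]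
  -- the operators have odd order
  have hodd : Odd (Nat.card R₁) := odd_card_of_linked h2 h3 ha hf hl hcop
  have haA : a ∈ A' := hA'.2 ⟨self_mem_eSpace ha, ha.2.1⟩
  -- each orbit is fixed
  have hinv : ∀ g ∈ R₁, eConj g a ∈ O a := by
    intro g hg
    by_contra hne
    have hA'g : ∀ z ∈ A', eConj g z ∈ A' := fun z hz =>
      hA'.2 ⟨act ha (hA g hg) z (hA'.1 hz).1, fun e => (hA'.1 hz).2 (eConj_eq_zero e)⟩
    set b := eConj g a
    set c := eConj g b
    have hbA : b ∈ A' := hA'g a haA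
    have hcA : c ∈ A' := hA'g b hbA
    have hc : c ∈ O a := by
      by_contra hca
      have hcb : c ∉ O b := by
        intro h
        have h' := hOconj (inv_mem hg) h
        simp only [c, b, eConj_comp, inv_mul_cancel, eConj_one, inv_mul_cancel_left] at h'
        exact hne h'
      have hd : ∀ {z v}, v ∉ O z → Disjoint (O z).toFinite.toFinset (O v).toFinite.toFinset := by
        intro z v h
        refine Finset.disjoint_left.2 fun w h1 h4 => h ?_
        rw [Set.Finite.mem_toFinset] at h1 h4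
        rw [← hOeq h1, hOeq h4]
        exact hrefl v
      have hu : (O a).toFinite.toFinset ∪ (O b).toFinite.toFinset ∪ (O c).toFinite.toFinset ⊆ A' := by
        refine Finset.union_subset (Finset.union_subset ?_ ?_) ?_ <;> intro v hv <;>
          rw [Set.Finite.mem_toFinset] at hv
        · exact hOsub a haA v hv
        · exact hOsub b hbA v hv
        · exact hOsub c hcA v hv
      have hcard := Finset.card_le_card hu
      rw [Finset.card_union_of_disjoint (Finset.disjoint_union_left.2 ⟨hd hca, hd hcb⟩),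
        Finset.card_union_of_disjoint (hd hne)] at hcard
      have l1 := hlarge a haA
      have l2 := hlarge b hbA
      have l3 := hlarge c hcA
      rw [Nat.card_coe_set_eq, Set.ncard_eq_toFinset_card _ (Set.toFinite _)] at l1 l2 l3
      have : 0 < A'.card := Finset.card_pos.2 ⟨a, haA⟩
      omega
    -- the square fixes the orbit, and `g` is a power of it
    have hpow : ∀ m : ℕ, eConj ((g * g) ^ m) a ∈ O a := by
      intro m
      induction m with
      | zero => rw [pow_zero, eConj_one]; exact hrefl a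
      | succ m ih =>
        have h := hOconj (g := g * g) (mul_mem hg hg) ih
        rw [eConj_comp, ← pow_succ'] at h
        have : O (eConj (g * g) a) = O a := hOeq (by simpa [c, b, eConj_comp] using hc)
        rwa [this] at h
    have hn1 : g ^ Nat.card R₁ = 1 := by
      exact congrArg Subtype.val (pow_card_eq_one' (x := (⟨g, hg⟩ : R₁)))
    obtain ⟨m, hm⟩ := hodd
    have h := hpow (m + 1)
    rw [← pow_two, ← pow_mul, show 2 * (m + 1) = Nat.card R₁ + 1 by omega, pow_succ, hn1, one_mul] at h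
    exact hne h
  obtain ⟨e, heO, hefix⟩ : ∃ e ∈ O a, ∀ g ∈ R₁, eConj g e = e := by
    letI : MulAction GLM EndM := MulAction.compHom _ eConjPerm
    have hRN : R₁ ≤ Subgroup.normalizer (N : Set GLM) := le_normalizer_of_conj_le fun g hg => by
      have hgA : g ∈ Subgroup.normalizer (A : Set GLM) := conjBy_eq_self_iff.1 (hA g hg)
      rintro _ ⟨h, ⟨hh1, hh2⟩, rfl⟩
      exact ⟨(Subgroup.mem_normalizer_iff.1 (hn hg) h).1 hh1,
        mul_mem (mul_mem hgA hh2) (Subgroup.inv_mem _ hgA)⟩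
    obtain ⟨t, ht, h⟩ := CfsgLib.Coprime.exists_fixed_point hRN
      (hcop.coprime_dvd_right (Subgroup.card_dvd_of_le inf_le_left)) (Or.inl hRs) a fun g hg => by
      obtain ⟨t, ht, e⟩ := hinv g hg
      exact ⟨t, ht, e.symm⟩
    exact ⟨eConj t a, ⟨t, ht, rfl⟩, h⟩
  obtain ⟨heA, he0⟩ := hA'.1 (hOsub a haA e heO)
  obtain ⟨f', hf', -, e1, e2⟩ := exists_partner_elt ha hf hl h2 h3 heA he0
  refine ⟨e, heA, f', hf', he0, e1, e2, fun g hg => ⟨hefix g hg, ?_⟩⟩
  have he' : eConj g e = e := hefix g hg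
  refine (partner_unique ha hf hl heA he0 hf' (act hf (hF g hg) f' hf') e1 ?_).symm
  conv_lhs => rw [← he', eConj_mul, eConj_mul, e1, he']

end CfsgLib.Flavell
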