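import Mathlib
import Cfsg.Agent.Lib.Classical.GL2
import Cfsg.Agent.Lib.ThreeTransp.QuadClass
import Cfsg.Agent.Lib.OddOrder.Dickson

/-!
The copy of `SL₂(k)` on a pair of partners, and the diagonal of its conjugates under operators.
-/

set_option autoImplicit false
set_option linter.unusedSectionVars false
set_option linter.style.haveILetI false

namespace CfsgLib.Flavell

open Cfsg CfsgLib.ThreeTransp
open CfsgLib.Classical (uSL lSL uSL_coe lSL_coe)

section pair

variable {k : Type*} [Field k] {M : Type*} [AddCommGroup M] [Module k M]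

local notation "GLM" => LinearMap.GeneralLinearGroup k M
local notation "EndM" => Module.End k M

variable {e f : Module.End k M}

/-- A matrix on the span of a pair of partners, the identity outside. -/
noncomputable def pairMat (e f : Module.End k M) (m : Matrix (Fin 2) (Fin 2) k) : Module.End k M :=
  1 - (e * f + f * e) + (m 0 0 • (e * f) + m 0 1 • e + m 1 0 • f + m 1 1 • (f * e))

theorem pairMat_one : pairMat e f (1 : Matrix (Fin 2) (Fin 2) k) = 1 := by
  simp [pairMat]

theorem pairMat_mul (se : e * e = 0) (sf : f * f = 0) (h1 : e * f * e = e) (h2 : f * e * f = f)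
    (m n : Matrix (Fin 2) (Fin 2) k) : pairMat e f (m * n) = pairMat e f m * pairMat e f n := by
  have h1' : e * (f * e) = e := by rw [← mul_assoc]; exact h1
  have h2' : f * (e * f) = f := by rw [← mul_assoc]; exact h2
  have he : ∀ x : EndM, e * (e * x) = 0 := fun x => by rw [← mul_assoc, se, zero_mul]
  have hf : ∀ x : EndM, f * (f * x) = 0 := fun x => by rw [← mul_assoc, sf, zero_mul]
  have hef : ∀ x : EndM, e * (f * (e * x)) = e * x := fun x => by
    rw [← mul_assoc f, ← mul_assoc e, h1']
  have hfe : ∀ x : EndM, f * (e * (f * x)) = f * x := fun x => by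
    rw [← mul_assoc e, ← mul_assoc f, h2']
  simp only [pairMat, Matrix.mul_apply, Fin.sum_univ_two]
  simp only [mul_add, add_mul, mul_sub, sub_mul, mul_one, one_mul, smul_mul_assoc, mul_smul_comm,
    smul_smul, mul_assoc, se, sf, he, hf, h1', h2', hef, hfe, smul_zero, mul_zero, zero_mul]
  module

theorem pairMat_upper (c : k) :
    pairMat e f (uSL c).1 = 1 + c • e := by
  rw [uSL_coe]; simp [pairMat]; abel

theorem pairMat_lower (c : k) : pairMat e f (lSL c).1 = 1 + c • f := by
  rw [lSL_coe]; simp [pairMat]; abel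

/-- `SL₂(k)` on a pair of partners. -/
noncomputable def pairHom (se : e * e = 0) (sf : f * f = 0) (h1 : e * f * e = e)
    (h2 : f * e * f = f) : Matrix.SpecialLinearGroup (Fin 2) k →* GLM :=
  MonoidHom.toHomUnits
    { toFun := fun m => pairMat e f m.1
      map_one' := by rw [Matrix.SpecialLinearGroup.coe_one, pairMat_one]
      map_mul' := fun m n => by
        rw [Matrix.SpecialLinearGroup.coe_mul, pairMat_mul se sf h1 h2] }

variable (se : e * e = 0) (sf : f * f = 0) (h1 : e * f * e = e) (h2 : f * e * f = f)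

theorem pairHom_val (m : Matrix.SpecialLinearGroup (Fin 2) k) :
    ((pairHom se sf h1 h2 m : GLM) : EndM) = pairMat e f m.1 := rfl

theorem pairHom_upper (c : k) : pairHom se sf h1 h2 (uSL c) = qel (c • e) :=
  (qel_eq_of_val (smul_sq_zero se c) (by rw [pairHom_val, pairMat_upper c])).symm

theorem pairHom_lower (c : k) : pairHom se sf h1 h2 (lSL c) = qel (c • f) :=
  (qel_eq_of_val (smul_sq_zero sf c) (by rw [pairHom_val, pairMat_lower c])).symm

theorem pairHom_injective (he0 : e ≠ 0) : Function.Injective (pairHom se sf h1 h2) := by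
  rw [← MonoidHom.ker_eq_bot_iff, Subgroup.eq_bot_iff_forall]
  intro m hm
  have hv : pairMat e f m.1 = 1 := by
    rw [← pairHom_val se sf h1 h2, MonoidHom.mem_ker.1 hm]; rfl
  have hf0 : f ≠ 0 := fun h => he0 (by rw [← h1, h, mul_zero, zero_mul])
  have a1 : (m.1 0 0 - 1) • e + m.1 1 0 • (f * e) = 0 := by
    have := congrArg (· * e) hv
    simp only [pairMat, add_mul, sub_mul, one_mul, smul_mul_assoc, h1, mul_assoc f e e, se, mul_zero,
      smul_zero, add_zero] at this
    rw [sub_smul, one_smul]
    linear_combination (norm := abel) this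
  have a2 : m.1 0 1 • (e * f) + (m.1 1 1 - 1) • f = 0 := by
    have := congrArg (· * f) hv
    simp only [pairMat, add_mul, sub_mul, one_mul, smul_mul_assoc, h2, mul_assoc e f f, sf, mul_zero,
      smul_zero, add_zero, zero_add] at this
    rw [sub_smul, one_smul]
    linear_combination (norm := abel) this
  have b1 : m.1 1 0 = 0 := by
    have := congrArg (e * ·) a1
    simp only [mul_add, mul_smul_comm, se, smul_zero, zero_add, ← mul_assoc, h1, mul_zero] at this
    exact (smul_eq_zero.1 this).resolve_right he0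
  have b2 : m.1 0 1 = 0 := by
    have := congrArg (f * ·) a2
    simp only [mul_add, mul_smul_comm, sf, smul_zero, add_zero, ← mul_assoc, h2, mul_zero] at this
    exact (smul_eq_zero.1 this).resolve_right hf0
  rw [b1, zero_smul, add_zero] at a1
  rw [b2, zero_smul, zero_add] at a2
  have b3 := sub_eq_zero.1 ((smul_eq_zero.1 a1).resolve_right he0)
  have b4 := sub_eq_zero.1 ((smul_eq_zero.1 a2).resolve_right hf0)
  ext i j
  fin_cases i <;> fin_cases j <;> simp [b1, b2, b3, b4]

/-- Over the prime field the image is generated by the two transvections. -/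
theorem pairHom_range_le {p : ℕ} [Fact p.Prime] [Module (ZMod p) M] {e f : Module.End (ZMod p) M}
    (se : e * e = 0) (sf : f * f = 0) (h1 : e * f * e = e) (h2 : f * e * f = f)
    {H : Subgroup (LinearMap.GeneralLinearGroup (ZMod p) M)} (he : qel e ∈ H) (hf : qel f ∈ H) :
    (pairHom se sf h1 h2).range ≤ H := by
  rw [MonoidHom.range_eq_map, Subgroup.map_le_iff_le_comap]
  refine (CfsgLib.OddOrder.SL2.zmod_eq_top ?_ ?_).ge
  · rw [Subgroup.mem_comap, pairHom_upper, one_smul]; exact he
  · rw [Subgroup.mem_comap, pairHom_lower, one_smul]; exact hf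

end pair

section diag

variable {X S : Type*} [Group X] [Group S]

/-- The diagonal of the conjugates of a subgroup which commute pairwise. -/
theorem exists_diag (R R₁ : Subgroup X) [Finite R] (φ : S →* X)
    (hfix : ∀ g ∈ R, g ∈ R₁ → ∀ x, g * φ x = φ x * g)
    (hcomm : ∀ g ∈ R, g ∉ R₁ → ∀ x y, Commute (φ x) (g * φ y * g⁻¹))
    (hinj : Function.Injective φ) :
    ∃ ψ : S →* X, (∀ g ∈ R, ∀ x, g * ψ x = ψ x * g) ∧ ψ.ker ≤ Subgroup.center S ∧
      ∀ H : Subgroup X, φ.range ≤ H → R ≤ Subgroup.normalizer (H : Set X) → ψ.range ≤ H := by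
  classical
  haveI := Fintype.ofFinite R
  let c : R → (S →* X) := fun r => (MulAut.conj (r : X)).toMonoidHom.comp φ
  have hc : ∀ (r : R) x, c r x = (r : X) * φ x * (r : X)⁻¹ := fun r x => rfl
  let F : Finset (S →* X) := Finset.univ.image c
  have hF : ∀ {i}, i ∈ F ↔ ∃ r, c r = i := by simp [F]
  have hpair : ∀ i ∈ F, ∀ j ∈ F, i ≠ j → ∀ x y, Commute (i x) (j y) := by
    intro i hi j hj hne x y
    obtain ⟨r, rfl⟩ := hF.1 hi
    obtain ⟨r', rfl⟩ := hF.1 hj
    have hg : ((r⁻¹ * r' : R) : X) ∉ R₁ := fun h => hne <| MonoidHom.ext fun z => by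
      have e := hfix _ (r⁻¹ * r' : R).2 h z
      rw [Subgroup.coe_mul, Subgroup.coe_inv] at e
      rw [hc, hc]
      calc (r : X) * φ z * (r : X)⁻¹
          = (r : X) * (φ z * ((r : X)⁻¹ * (r' : X))) * (r' : X)⁻¹ := by group
        _ = (r' : X) * φ z * (r' : X)⁻¹ := by rw [← e]; group
    have h := (hcomm _ (r⁻¹ * r' : R).2 hg x y).map (MulAut.conj (r : X))
    rw [hc, hc]
    simpa [mul_assoc] using h
  have hp : ∀ x y, (F : Set (S →* X)).Pairwise fun i j => Commute (i x) (j y) :=
    fun x y i hi j hj hne => hpair i hi j hj hne x y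
  let ψ : S →* X :=
    { toFun := fun x => F.noncommProd (fun i => i x) (hp x x)
      map_one' := by
        refine (Finset.noncommProd_eq_pow_card _ _ _ 1 fun i _ => map_one i).trans ?_
        rw [one_pow]
      map_mul' := fun x y => by
        rw [← Finset.noncommProd_mul_distrib (fun i : S →* X => i x) (fun i => i y) (hp x x) (hp y y)
          (fun i hi j hj hne => (hpair i hi j hj hne y x))]
        exact Finset.noncommProd_congr rfl (fun i _ => map_mul i x y) _ }
  have hψ : ∀ x, ψ x = F.noncommProd (fun i => i x) (hp x x) := fun x => rfl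
  refine ⟨ψ, fun g hg x => ?_, fun x hx => ?_, fun H hH hR => ?_⟩
  · have hperm : F.image (fun i => (MulAut.conj g).toMonoidHom.comp i) = F := by
      refine Finset.eq_of_subset_of_card_le (fun i hi => ?_) (le_of_eq ?_)
      · obtain ⟨j, hj, rfl⟩ := Finset.mem_image.1 hi
        obtain ⟨r, rfl⟩ := hF.1 hj
        exact hF.2 ⟨⟨g, hg⟩ * r, MonoidHom.ext fun z => by simp [c, mul_assoc]⟩
      · refine (Finset.card_image_of_injective _ fun i j h => MonoidHom.ext fun z => ?_).symm
        exact (MulAut.conj g).injective (DFunLike.congr_fun h z)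
    have hkey : MulAut.conj g (ψ x) = ψ x := by
      rw [hψ, Finset.map_noncommProd]
      unfold Finset.noncommProd
      congr 1
      have hv : (F.image (fun i => (MulAut.conj g).toMonoidHom.comp i)).1 =
          F.1.map fun i => (MulAut.conj g).toMonoidHom.comp i :=
        Finset.image_val_of_injOn fun i _ j _ h => MonoidHom.ext fun z =>
          (MulAut.conj g).injective (DFunLike.congr_fun h z)
      rw [hperm] at hv
      conv_rhs => rw [hv, Multiset.map_map]
      rfl
    rw [MulAut.conj_apply, mul_inv_eq_iff_eq_mul] at hkey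
    exact hkey
  · have h1 : c 1 ∈ F := hF.2 ⟨1, rfl⟩
    have hc1 : c 1 = φ := MonoidHom.ext fun z => by simp [c]
    have h := Finset.mul_noncommProd_erase F h1 (fun i => i x) (hp x x)
    rw [← hψ, MonoidHom.mem_ker.1 hx, hc1] at h
    refine Subgroup.mem_center_iff.2 fun y => hinj ?_
    have hy : Commute (φ y) (φ x) := by
      rw [eq_inv_of_mul_eq_one_left h]
      refine (Finset.noncommProd_commute _ _ _ _ fun i hi => ?_).inv_right
      obtain ⟨hne, hiF⟩ := Finset.mem_erase.1 hi
      exact hpair φ (hc1 ▸ h1) i hiF (fun e => hne e.symm) y x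
    rw [map_mul, map_mul]
    exact hy.eq
  · rintro _ ⟨x, rfl⟩
    rw [hψ]
    refine Subgroup.noncommProd_mem _ _ fun i hi => ?_
    obtain ⟨r, rfl⟩ := hF.1 hi
    exact (Subgroup.mem_normalizer_iff.1 (hR r.2) _).1 (hH ⟨x, rfl⟩)

end diag

end CfsgLib.Flavell
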