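import Mathlib
import Cfsg.Agent.Lib.FT.OddOrderTheorem
import Cfsg.Agent.Lib.Flavell.Component
import Cfsg.Agent.Lib.Flavell.CoreBase
import Cfsg.Agent.Lib.Flavell.ZJEquiv.Fixed
import Cfsg.Agent.Lib.Flavell.ZJEquiv.SL2Pair

/-!
A linear group with quadratic elements and no normal `p`-subgroup has `PSL₂(p)` in the centralizer of
every coprime group of operators.
-/

set_option autoImplicit false
set_option linter.unusedSectionVars false
set_option linter.style.haveILetI false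

namespace CfsgLib.Flavell

open Cfsg CfsgLib.ThreeTransp

universe u

variable {p : ℕ} [Fact p.Prime] {V : Type u} [AddCommGroup V] [Module (ZMod p) V]
  [FiniteDimensional (ZMod p) V] {G R : Subgroup (LinearMap.GeneralLinearGroup (ZMod p) V)}

local notation "GLM" => LinearMap.GeneralLinearGroup (ZMod p) V
local notation "EndM" => Module.End (ZMod p) V

theorem exists_qmin {s : EndM} (hs : QFam G s) (hs0 : s ≠ 0) : ∃ a, QMin G a := by
  classical
  have hex : ∃ n, ∃ y, QFam G y ∧ y ≠ 0 ∧ erk y = n := ⟨_, s, hs, hs0, rfl⟩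
  obtain ⟨a, ha, ha0, hn⟩ := Nat.find_spec hex
  exact ⟨a, ha, ha0, fun y hy hy0 => hn ▸ Nat.find_min' hex ⟨y, hy, hy0, rfl⟩⟩

/-- The fixed subgroup contains a section `PSL₂(p)`. -/
theorem exists_fixed_sl2 [Finite GLM] (hp : 3 < p) (hG : NoPCore p G)
    (hn : R ≤ Subgroup.normalizer (G : Set GLM)) (hcop : (Nat.card R).Coprime (Nat.card G))
    {a : EndM} (ha : QMin G a) :
    ∃ ψ : Matrix.SpecialLinearGroup (Fin 2) (ZMod p) →* GLM,
      ψ.ker ≤ Subgroup.center _ ∧ ψ.range ≤ G ⊓ Subgroup.centralizer (R : Set GLM) := by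
  have h2 := two_ne hp
  have h3 := card_ne_three hp
  obtain ⟨l, hl0, hl1, hl2⟩ : ∃ l : ZMod p, l ≠ 0 ∧ l ≠ 1 ∧ l * l ≠ 1 := by
    obtain ⟨l, -, -, -, -, h0, h1, h2', -⟩ := exists_scalar (p := p) hp
    exact ⟨l, h0, h1, h2'⟩
  have hRs : Group.IsSolvable R := by
    obtain ⟨g, hg, hl⟩ := exists_linked' h2 h3 hG ha
    exact CfsgLib.FT.isSolvable_of_odd (odd_card_of_linked h2 h3 (ha.conj hg) ha hl hcop)
  obtain ⟨a0, f, ha0, hf, hl, hcls, hfix⟩ :=
    exists_fixed_pair_of_solvable h2 h3 hl0 hl1 hl2 hG hRs hn hcop ha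
  set R₁ := classStab G R hn (eGrp G a ha) with hR₁
  have hle : R₁ ≤ R := classStab_le
  obtain ⟨e, he, f', hf', he0, e1, e2, hfix'⟩ :=
    exists_fixed_elements_of_solvable h2 h3 ha0 hf hl (CfsgLib.Coprime.isSolvable_of_le hle hRs)
      (hle.trans hn) (hcop.coprime_dvd_left (Subgroup.card_dvd_of_le hle))
      (fun g hg => (hfix g hg.1 hg.2).1) (fun g hg => (hfix g hg.1 hg.2).2)
  set φ := pairHom he.1.1 hf'.1.1 e1 e2 with hφ
  have hf1 : eGrp G f hf ∈ rootCls G (eGrp G a ha) :=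
    rootCls_trans hcls (cls_of_linked h2 h3 ha0 hf hl)
  have hφcls : φ.range ≤ clsGrp G (eGrp G a ha) :=
    pairHom_range_le _ _ _ _ (le_clsGrp hcls (qel_mem_eGrp ha0 he))
      (le_clsGrp hf1 (qel_mem_eGrp hf hf'))
  obtain ⟨ψ, hψR, hker, hran⟩ := exists_diag R R₁ φ
    (fun g _ hg x => by
      have : φ.range ≤ Subgroup.centralizer ({g} : Set GLM) := by
        obtain ⟨c1, c2⟩ := hfix' g hg
        refine pairHom_range_le _ _ _ _ ?_ ?_ <;> rw [Subgroup.mem_centralizer_singleton_iff]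
        · have := qel_conj (g := g) he.1.1
          rw [c1, mul_inv_eq_iff_eq_mul] at this
          exact this.symm
        · have := qel_conj (g := g) hf'.1.1
          rw [c2, mul_inv_eq_iff_eq_mul] at this
          exact this.symm
      exact (Subgroup.mem_centralizer_singleton_iff.1 (this ⟨x, rfl⟩)).symm)
    (fun g hg hg1 x y => clsGrp_conj_commute hp hG ha (hn hg) (fun h => hg1 ⟨hg, h⟩) _
      (hφcls ⟨x, rfl⟩) _ ⟨φ y, hφcls ⟨y, rfl⟩, rfl⟩)
    (pairHom_injective _ _ _ _ he0)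
  refine ⟨ψ, hker, le_inf (hran G (hφcls.trans ((clsGrp_le ha).trans qG0_le)) hn) ?_⟩
  rintro _ ⟨x, rfl⟩
  exact Subgroup.mem_centralizer_iff.2 fun g hg => hψR g hg x

end CfsgLib.Flavell
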