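import Mathlib
import Cfsg.Agent.Lib.PLocal.ZJPStable
import Cfsg.Agent.Lib.PLocal.Constrained
import Cfsg.Agent.Lib.Transfer.SL2Free
import Cfsg.Agent.Lib.Techniques.MinimalFailure
import Cfsg.Agent.Lib.Fusion.SectionFreeFactor
import Cfsg.Agent.Lib.PSL2.Congr
import Cfsg.Agent.Lib.Flavell.Chief
import Cfsg.Agent.Lib.Base.Cores
import Cfsg.Agent.Lib.Flavell.ZJEquiv.Linear

/-!
Quadratic stability of a group with coprime operators whose fixed points have no section `PSL₂(p)`,
and the equivariant ZJ-factorization.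
-/

set_option autoImplicit false
set_option linter.unusedSectionVars false
set_option linter.style.haveILetI false

namespace CfsgLib.Flavell

open Cfsg Subgroup CfsgLib.ThreeTransp
open scoped commutatorElement

universe u

section chief

variable {M : Type u} [Group M] [Finite M] {p : ℕ}

/-- Quadratic `p`-elements centralize the chief factors inside `p`-groups. -/
def ChiefStable (p : ℕ) (M : Type u) [Group M] : Prop :=
  ∀ U V : Subgroup M, IsChiefFactor U V → IsPGroup p U → ∀ a : M, IsPGroup p (zpowers a) →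
    ⁅⁅U, zpowers a⁆, zpowers a⁆ ≤ V → ⁅U, zpowers a⁆ ≤ V

theorem exists_normal_of_chiefStable [Fact p.Prime] (hst : ChiefStable p M) :
    ∀ (n : ℕ) (B : Subgroup M) [B.Normal], Nat.card B ≤ n → IsPGroup p B →
    ∀ a : M, IsPGroup p (zpowers a) → ⁅⁅B, zpowers a⁆, zpowers a⁆ = ⊥ →
      ∃ D : Subgroup M, D.Normal ∧ a ∈ D ∧
        ∀ d ∈ D, Nat.Coprime (orderOf d) p → d ∈ centralizer (B : Set M) := by
  intro n
  induction n with
  | zero => intro B _ hn; exact absurd hn (by have := Nat.card_pos (α := B); omega)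
  | succ n ih =>
    intro B _ hn hB a ha hq
    by_cases hB0 : B = ⊥
    · exact ⟨⊤, inferInstance, mem_top a, fun d _ _ => by
        subst hB0
        exact mem_centralizer_iff.mpr fun x hx => by rw [mem_bot.mp hx]; simp⟩
    obtain ⟨V, hV⟩ := CfsgLib.Techniques.exists_chiefFactor_below hB0
    have hVB : V < B := hV.1
    haveI hVn : V.Normal := hV.2.2.1
    have hcard : Nat.card V ≤ n := by
      have := CfsgLib.PLocal.card_lt_of_lt hVB
      omega
    have hqV : ⁅⁅V, zpowers a⁆, zpowers a⁆ = ⊥ :=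
      le_bot_iff.mp ((commutator_mono (commutator_mono hVB.le le_rfl) le_rfl).trans hq.le)
    obtain ⟨D, hDn, haD, hD⟩ := ih V hcard (hB.to_le hVB.le) a ha hqV
    have h1 : ⁅B, zpowers a⁆ ≤ V := hst B V hV hB a ha (hq.le.trans bot_le)
    let π := QuotientGroup.mk' V
    haveI : (B.map π).Normal := Normal.map ‹B.Normal› π (QuotientGroup.mk'_surjective V)
    let K : Subgroup M := (centralizer ((B.map π : Subgroup (M ⧸ V)) : Set (M ⧸ V))).comap π
    refine ⟨D ⊓ K, inferInstance, ⟨haD, ?_⟩, ?_⟩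
    · refine mem_centralizer_iff.2 ?_
      rintro _ ⟨b, hb, rfl⟩
      rw [← commutatorElement_eq_one_iff_mul_comm, ← map_commutatorElement]
      exact (QuotientGroup.eq_one_iff _).2 (h1 (commutator_mem_commutator hb (mem_zpowers a)))
    rintro d ⟨hdD, hdK⟩ hdp
    rw [mem_centralizer_iff]
    intro b hb
    have hw : ⁅d, b⁆ ∈ V := by
      refine (QuotientGroup.eq_one_iff _).mp ?_
      change π ⁅d, b⁆ = 1
      rw [map_commutatorElement, commutatorElement_eq_one_iff_mul_comm]
      exact (mem_centralizer_iff.mp hdK _ (mem_map_of_mem π hb)).symm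
    have h3 : d * ⁅d, b⁆ * d⁻¹ = ⁅d, b⁆ :=
      mul_inv_eq_iff_eq_mul.mpr (mem_centralizer_iff.mp (hD d hdD hdp) _ hw).symm
    obtain ⟨k, hk⟩ := hB ⟨_, hVB.le hw⟩
    have h4 := CfsgLib.Transfer.eq_one_of_conj_eq_mul hdp ⟨k, congrArg Subtype.val hk⟩ h3
      (show d * b * d⁻¹ = ⁅d, b⁆ * b by rw [commutatorElement_def]; group)
    exact (commutatorElement_eq_one_iff_mul_comm.mp h4).symm

theorem quadStable_of_chiefStable [Fact p.Prime] (hst : ChiefStable p M) :
    CfsgLib.PLocal.QuadStable p M := by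
  intro B _ hB a ha hq
  obtain ⟨D, hDn, haD, hD⟩ := exists_normal_of_chiefStable hst _ B le_rfl hB a ha hq
  let π := QuotientGroup.mk' (centralizer (B : Set M))
  have hDp : IsPGroup p (D.map π) := by
    rintro ⟨_, x, hx, rfl⟩
    obtain ⟨c, -, d, hd', hcd, ⟨j, hj⟩, hdp⟩ := CfsgLib.Transfer.exists_pPart_mul (p := p) x
    have hd1 : π d = 1 := (QuotientGroup.eq_one_iff d).mpr (hD d (zpowers_le.mpr hx hd') hdp)
    refine ⟨j, Subtype.ext ?_⟩
    rw [SubmonoidClass.coe_pow, OneMemClass.coe_one]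
    change (π x) ^ p ^ j = 1
    rw [← hcd, map_mul, hd1, mul_one, ← map_pow, orderOf_dvd_iff_pow_eq_one.mp hj, map_one]
  have hDn' : (D.map π).Normal := hDn.map π (QuotientGroup.mk'_surjective _)
  exact CfsgLib.Base.le_pCore hDp (mem_map_of_mem π haD)

end chief

theorem involves_psl_of_ker_le_center {p : ℕ} [Fact p.Prime] {F : Type*} [Field F] [Fintype F]
    (hF : Fintype.card F = p) {X : Type*} [Group X]
    (ψ : Matrix.SpecialLinearGroup (Fin 2) (ZMod p) →* X) (h : ψ.ker ≤ center _) :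
    Cfsg.Involves (Matrix.ProjectiveSpecialLinearGroup (Fin 2) F) ↥ψ.range := by
  obtain ⟨e⟩ := CfsgLib.PSL2.nonempty_psl_congr (n := Fin 2)
    (ZMod.ringEquivOfPrime F (Fact.out : p.Prime) hF)
  let q := QuotientGroup.map ψ.ker (center (Matrix.SpecialLinearGroup (Fin 2) (ZMod p)))
    (MonoidHom.id _) h
  have hq : Function.Surjective q := fun y => by
    obtain ⟨x, rfl⟩ := QuotientGroup.mk_surjective y
    exact ⟨QuotientGroup.mk x, rfl⟩
  let θ : ↥ψ.range →* Matrix.ProjectiveSpecialLinearGroup (Fin 2) F :=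
    e.toMonoidHom.comp (q.comp (QuotientGroup.quotientKerEquivRange ψ).symm.toMonoidHom)
  have hθ : Function.Surjective θ :=
    e.surjective.comp (hq.comp (QuotientGroup.quotientKerEquivRange ψ).symm.surjective)
  refine CfsgLib.Fusion.involves_of_quotient θ hθ ?_
  refine ⟨⊤, ⊥, by rw [bot_subgroupOf]; infer_instance, ⟨?_⟩⟩
  exact (QuotientGroup.quotientMulEquivOfEq (bot_subgroupOf ⊤)).trans
    (QuotientGroup.quotientBot.trans topEquiv)

/-- Flavell's equivariant ZJ-theorem for `p`-constrained groups. -/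
theorem zj_factorization {G : Type u} [Group G] [Finite G] {p : ℕ} [Fact p.Prime] (hp5 : 5 ≤ p)
    (hG : Cfsg.IsPConstrained p G) (S : Sylow p G) (A : Subgroup (MulAut G))
    (hA : (Nat.card ↥A).Coprime (Nat.card G))
    (C : Subgroup G) (hC : ∀ g : G, g ∈ C ↔ ∀ a ∈ A, a g = g)
    {F : Type*} [Field F] [Fintype F] (hF : Fintype.card F = p)
    (hfix : ¬ Cfsg.Involves (Matrix.ProjectiveSpecialLinearGroup (Fin 2) F) ↥C) :
    pPrimeCore p G ⊔ normalizer (centerThompsonAOf (S : Subgroup G) : Set G) = ⊤ := by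
  classical
  rw [CfsgLib.PLocal.centerThompsonAOf_eq]
  set Z := CfsgLib.PLocal.maxCenter 0 (S : Subgroup G) with hZ
  have hZS : Z ≤ (S : Subgroup G) := CfsgLib.PLocal.maxCenter_le 0 _
  by_cases hpG : p ∣ Nat.card G
  swap
  · have hS0 : (S : Subgroup G) = ⊥ := by
      obtain ⟨j, hj⟩ := IsPGroup.iff_card.1 S.2
      rcases j.eq_zero_or_pos with rfl | hj0
      · exact Subgroup.eq_bot_of_card_eq _ (by rw [hj, pow_zero])
      · exact absurd ((dvd_pow_self p hj0.ne').trans (hj ▸ card_subgroup_dvd_card _)) hpG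
    haveI : Z.Normal := by
      rw [le_bot_iff.1 (hZS.trans hS0.le)]
      infer_instance
    rw [normalizer_eq_top, sup_top_eq]
  have hpA : p.Coprime (Nat.card A) := (hA.coprime_dvd_right hpG).symm
  set N := pPrimeCore p G with hNdef
  have hN : (Nat.card N).Coprime p := CfsgLib.Base.pPrimeCore_coprime p G
  have hc := CfsgLib.PLocal.isPConstrained_iff.1 hG
  -- the semidirect product
  let Y := SemidirectProduct G ↥A A.subtype
  haveI : Finite Y := Finite.of_equiv _ SemidirectProduct.equivProd.symm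
  let ι : G →* Y := SemidirectProduct.inl
  have hι : Function.Injective ι := SemidirectProduct.inl_injective
  let κ : ↥A →* Y := SemidirectProduct.inr
  have hact : ∀ (a : ↥A) (x : G), κ a * ι x * (κ a)⁻¹ = ι ((a : MulAut G) x) := fun a x => by
    rw [← map_inv]
    exact (SemidirectProduct.inl_aut a x).symm
  have hdec : ∀ y : Y, ∃ (g : G) (a : ↥A), y = ι g * κ a := fun y =>
    ⟨_, _, (SemidirectProduct.inl_left_mul_inr_right y).symm⟩
  have norm : ∀ H : Subgroup G, H.Normal → (∀ a ∈ A, H.map (a : MulAut G).toMonoidHom = H) →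
      (H.map ι).Normal := by
    intro H hH hHA
    refine ⟨?_⟩
    rintro _ ⟨h, hh, rfl⟩ y
    obtain ⟨g, a, rfl⟩ := hdec y
    refine ⟨g * (a : MulAut G) h * g⁻¹, hH.conj_mem _ ?_ g, ?_⟩
    · rw [← hHA _ a.2]; exact ⟨h, hh, rfl⟩
    · calc ι (g * (a : MulAut G) h * g⁻¹) = ι g * ι ((a : MulAut G) h) * (ι g)⁻¹ := by
            rw [map_mul, map_mul, map_inv]
        _ = ι g * κ a * ι h * (ι g * κ a)⁻¹ := by rw [← hact]; simp only [mul_inv_rev, mul_assoc]
  haveI hιn : (ι.range).Normal := by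
    rw [MonoidHom.range_eq_map]
    exact norm ⊤ inferInstance fun a _ => Subgroup.map_top_of_surjective _ a.surjective
  haveI : (N.map ι).Normal := norm N inferInstance fun a _ =>
    Subgroup.characteristic_iff_map_eq.1 inferInstance _
  let π := QuotientGroup.mk' (N.map ι)
  let j : G →* Y ⧸ N.map ι := π.comp ι
  haveI hjn : (j.range).Normal := by
    rw [MonoidHom.range_comp]
    exact hιn.map π (QuotientGroup.mk'_surjective _)
  have hpmem : ∀ y : Y ⧸ N.map ι, IsPGroup p (zpowers y) → y ∈ j.range := by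
    intro y hy
    obtain ⟨x, rfl⟩ := QuotientGroup.mk'_surjective _ y
    have h1 : (π x) ^ Nat.card A ∈ j.range := by
      have hx : x ^ Nat.card A ∈ ι.range := by
        rw [show ι.range = (SemidirectProduct.rightHom (φ := A.subtype)).ker from
          SemidirectProduct.range_inl_eq_ker_rightHom, MonoidHom.mem_ker, map_pow]
        exact pow_card_eq_one'
      obtain ⟨g, hg⟩ := hx
      exact ⟨g, show π (ι g) = _ by rw [hg, map_pow]⟩
    obtain ⟨i, hi⟩ := IsPGroup.iff_card.1 hy
    rw [Nat.card_zpowers] at hi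
    obtain ⟨m, hm⟩ := exists_pow_eq_self_of_coprime (x := π x) (n := Nat.card A)
      (by rw [hi]; exact Nat.Coprime.pow_left i hpA |>.symm)
    exact hm ▸ pow_mem h1 m
  -- chief factors are stable
  have hst : ChiefStable p (Y ⧸ N.map ι) := by
    intro U V hUV hU a ha hq
    by_contra hne
    obtain ⟨W, _, _, _, ρ, hker, hsq, hirr⟩ := exists_chiefRep (p := p) hUV hU
    haveI : Finite W := Module.finite_of_finite (ZMod p)
    haveI : Finite (LinearMap.GeneralLinearGroup (ZMod p) W) :=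
      Finite.of_injective (fun u : LinearMap.GeneralLinearGroup (ZMod p) W => ⇑(u : Module.End (ZMod p) W))
        fun u v h => Units.ext (DFunLike.coe_injective h)
    set f : G →* LinearMap.GeneralLinearGroup (ZMod p) W := ρ.comp j with hf
    set R := (ρ.comp (π.comp κ)).range with hR
    have hfr : f.range = j.range.map ρ := MonoidHom.range_comp _ _
    have hn : R ≤ normalizer (f.range : Set (LinearMap.GeneralLinearGroup (ZMod p) W)) := by
      rw [hfr]
      refine le_trans ?_ (le_normalizer_map ρ)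
      rw [normalizer_eq_top, hR, MonoidHom.range_comp]
      exact map_mono le_top
    have hcop : (Nat.card R).Coprime (Nat.card f.range) :=
      (hA.coprime_dvd_left (card_range_dvd _)).coprime_dvd_right (card_range_dvd _)
    have hnp : NoPCore p f.range := by
      intro N' hle hnor hp'
      by_contra hne'
      haveI := (nontrivial_iff_ne_bot N').2 hne'
      obtain ⟨⟨x, hx⟩, hx1⟩ := exists_ne (1 : N')
      obtain ⟨N'', h1, h2, h3, h4⟩ := InPCore.exists_invariant hn
        (show InPCore p f.range x from ⟨N', hle, hnor, hp', hx⟩)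
      have hle' : f.range ≤ ρ.range := by rw [hfr]; exact map_le_range _ _
      have hbot := hirr N'' (h1.trans hle') h2 (le_trans (by
        rintro _ ⟨y, rfl⟩
        obtain ⟨x, rfl⟩ := QuotientGroup.mk'_surjective _ y
        obtain ⟨g, b, rfl⟩ := hdec x
        rw [map_mul, map_mul]
        exact mul_mem (mem_sup_left ⟨g, rfl⟩) (mem_sup_right ⟨b, rfl⟩)) h3)
      rw [hbot, mem_bot] at h4
      exact hx1 (Subtype.ext h4)
    have hs := hsq a hq
    have hs0 : udif (ρ a) ≠ 0 := fun h => hne (hker a (by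
      rw [← qel_udif hs, h, qel_zero]))
    have hmem : qel (udif (ρ a)) ∈ f.range := by
      rw [qel_udif hs, hfr]
      exact mem_map_of_mem ρ (hpmem a ha)
    obtain ⟨x0, hx0⟩ := exists_qmin (qfam_of_mem hs hmem) hs0
    have hp3 : 3 < p := by omega
    obtain ⟨ψ, hψk, hψr⟩ := exists_fixed_sl2 hp3 hnp hn hcop hx0
    -- the operators are soluble
    have hodd : Odd (Nat.card A) := by
      obtain ⟨g, hg, hl⟩ := exists_linked' (two_ne hp3) (card_ne_three hp3) hnp hx0
      exact odd_card_of_coprime hA (card_range_dvd f)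
        (two_dvd_card_of_linked (two_ne hp3) (card_ne_three hp3) (hx0.conj hg) hx0 hl)
    have hκs : Group.IsSolvable κ.range :=
      haveI := CfsgLib.FT.isSolvable_of_odd hodd
      Group.isSolvable_of_surjective κ.rangeRestrict_surjective
    have hcopY : (Nat.card κ.range).Coprime (Nat.card ι.range) :=
      (hA.coprime_dvd_left (card_range_dvd _)).coprime_dvd_right (card_range_dvd _)
    have himg : ψ.range ≤ C.map f := by
      intro y hy
      obtain ⟨⟨g, rfl⟩, hcy⟩ := mem_inf.1 (hψr hy)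
      set K := f.ker.map ι with hK
      have hKeq : ∀ {z : G}, ι z ∈ K ↔ f z = 1 := fun {z} =>
        ⟨fun ⟨z', hz', e⟩ => hι e ▸ hz', fun hz => ⟨z, hz, rfl⟩⟩
      have hfa : ∀ (b : ↥A) (z : G),
          f ((b : MulAut G) z) = ρ (π (κ b)) * f z * (ρ (π (κ b)))⁻¹ := by
        intro b z
        show ρ (π (ι ((b : MulAut G) z))) = ρ (π (κ b)) * ρ (π (ι z)) * (ρ (π (κ b)))⁻¹
        rw [← hact, map_mul π, map_mul π, map_mul ρ, map_mul ρ, map_inv π, map_inv ρ]
      have hKn : κ.range ≤ normalizer (K : Set Y) := le_normalizer_of_conj_le fun y hy => by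
        obtain ⟨b, rfl⟩ := hy
        rintro _ ⟨_, ⟨z, hz, rfl⟩, rfl⟩
        refine ⟨(b : MulAut G) z, ?_, (hact b z).symm⟩
        rw [SetLike.mem_coe, MonoidHom.mem_ker, hfa, MonoidHom.mem_ker.1 hz, mul_one, mul_inv_cancel]
      obtain ⟨c, hc1, hc2⟩ := CfsgLib.Coprime.exists_centralizing_in_coset hKn
        (hcopY.coprime_dvd_right (card_dvd_of_le (map_le_range _ _))) (Or.inl hκs) (k := ι g) (by
          rintro _ ⟨b, rfl⟩
          have hb : ρ (π (κ b)) * f g = f g * ρ (π (κ b)) := mem_centralizer_iff.1 hcy _ ⟨b, rfl⟩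
          rw [hact, ← map_inv, ← map_mul, hKeq, map_mul, map_inv, hfa, hb]
          simp)
      obtain ⟨g', rfl⟩ : c ∈ ι.range := by
        have := mul_mem (⟨g, rfl⟩ : ι g ∈ ι.range) (map_le_range _ _ hc2)
        rwa [mul_inv_cancel_left] at this
      refine ⟨g', (hC g').2 fun b hb => hι ?_, ?_⟩
      · rw [← hact ⟨b, hb⟩, mem_centralizer_iff.1 hc1 _ ⟨⟨b, hb⟩, rfl⟩, mul_inv_cancel_right]
      · rw [← map_inv, ← map_mul, hKeq, map_mul, map_inv, inv_mul_eq_one] at hc2
        exact hc2.symm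
    refine hfix (CfsgLib.Fusion.involves_of_quotient (f.subgroupMap C) (f.subgroupMap_surjective C)
      (CfsgLib.Fusion.involves_of_injective (inclusion himg) (inclusion_injective himg) ?_))
    exact involves_psl_of_ker_le_center hF ψ hψk
  have hqs := quadStable_of_chiefStable hst
  -- transport
  have hjker : ∀ g : G, j g = 1 ↔ g ∈ N := fun g =>
    ((QuotientGroup.eq_one_iff _).trans
      ⟨fun ⟨z, hz, e⟩ => hι e ▸ hz, fun h => ⟨g, h, rfl⟩⟩)
  let jb : G ⧸ N →* Y ⧸ N.map ι := QuotientGroup.lift N j fun g hg => (hjker g).2 hg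
  have hjb : Function.Injective jb := by
    rw [← MonoidHom.ker_eq_bot_iff, Subgroup.eq_bot_iff_forall]
    intro x hx
    obtain ⟨g, rfl⟩ := QuotientGroup.mk_surjective x
    exact (QuotientGroup.eq_one_iff g).2 ((hjker g).1 hx)
  have hjbr : jb.range = j.range := by
    ext y
    exact ⟨fun ⟨x, hx⟩ => by
      obtain ⟨g, rfl⟩ := QuotientGroup.mk_surjective x
      exact ⟨g, hx⟩, fun ⟨g, hg⟩ => ⟨QuotientGroup.mk g, hg⟩⟩
  have hinj : Function.Injective (j.comp (S : Subgroup G).subtype) := by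
    rw [← MonoidHom.ker_eq_bot_iff, eq_bot_iff]
    intro x hx
    exact Subtype.ext (mem_bot.1 ((CfsgLib.Base.inf_eq_bot_of_isPGroup_of_coprime S.2 hN).le
      ⟨x.2, (hjker _).1 hx⟩))
  obtain ⟨P, hP⟩ := (S.2.map j).exists_le_sylow
  have hPj : (P : Subgroup (Y ⧸ N.map ι)) ≤ j.range := fun y hy =>
    hpmem y (P.2.to_le (zpowers_le.2 hy))
  have hPeq : (S : Subgroup G).map j = (P : Subgroup (Y ⧸ N.map ι)) := by
    let S1 : Sylow p j.range := S.mapSurjective j.rangeRestrict_surjective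
    have h1 := S1.3 (P.2.comap_of_injective j.range.subtype j.range.subtype_injective) (by
      rintro _ ⟨x, hx, rfl⟩
      exact hP ⟨x, hx, rfl⟩)
    refine le_antisymm hP fun y hy => ?_
    have h2 : (⟨y, hPj hy⟩ : j.range) ∈ (S1 : Subgroup j.range) :=
      h1.le (show (⟨y, hPj hy⟩ : j.range) ∈ (P : Subgroup (Y ⧸ N.map ι)).comap j.range.subtype from hy)
    obtain ⟨x, hx, e⟩ := h2
    exact ⟨x, hx, congrArg Subtype.val e⟩
  have hmap : Z.map j = CfsgLib.PLocal.maxCenter 0 (P : Subgroup (Y ⧸ N.map ι)) := by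
    rw [hZ, CfsgLib.PLocal.map_maxCenter_of_injective j _ hinj, hPeq]
  set Q0 := (pCore p (G ⧸ N)).map jb with hQ0
  have hQ0p : IsPGroup p Q0 := (CfsgLib.Base.isPGroup_pCore p _).map jb
  haveI hQ0n : Q0.Normal := by
    refine ⟨fun q hq y => ?_⟩
    obtain ⟨x, rfl⟩ := QuotientGroup.mk'_surjective _ y
    obtain ⟨g, b, rfl⟩ := hdec x
    obtain ⟨q0, hq0, rfl⟩ := hq
    let e : G ⧸ N ≃* G ⧸ N := QuotientGroup.congr N N (b : MulAut G)
      (Subgroup.characteristic_iff_map_eq.1 inferInstance _)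
    refine ⟨(QuotientGroup.mk g : G ⧸ N) * e q0 * (QuotientGroup.mk g)⁻¹,
      (pCore_normal p _).conj_mem _ ?_ _, ?_⟩
    · rw [← Subgroup.characteristic_iff_map_eq.1 (inferInstance : (pCore p (G ⧸ N)).Characteristic) e]
      exact mem_map_of_mem _ hq0
    · obtain ⟨z, rfl⟩ := QuotientGroup.mk_surjective q0
      show π (ι (g * (b : MulAut G) z * g⁻¹)) = π (ι g * κ b) * π (ι z) * (π (ι g * κ b))⁻¹
      rw [← map_inv π, ← map_mul π, ← map_mul π]
      congr 1
      rw [map_mul, map_mul, map_inv, ← hact]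
      simp only [mul_inv_rev, mul_assoc]
  have hZP : CfsgLib.PLocal.maxCenter 0 (P : Subgroup (Y ⧸ N.map ι)) ≤ Q0 := by
    have hQP : Q0 ≤ (P : Subgroup (Y ⧸ N.map ι)) :=
      (CfsgLib.Base.le_pCore hQ0p).trans (CfsgLib.Base.pCore_le_sylow P)
    set Z' := CfsgLib.PLocal.maxCenter 0 (P : Subgroup (Y ⧸ N.map ι))
    have hq := CfsgLib.PLocal.quadratic_le hqs hQ0p (P.2.to_le (CfsgLib.PLocal.maxCenter_le 0 _))
      ⟨⟨fun a b => Subtype.ext (CfsgLib.PLocal.maxCenter_comm 0 _ _ a.2 _ b.2)⟩⟩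
      (hQP.trans (le_normalizer.trans (CfsgLib.PLocal.maxCenter_le_normalizer _)))
    set D := (pCore p (_ ⧸ centralizer (Q0 : Set (Y ⧸ N.map ι)))).comap (QuotientGroup.mk' _) with hD
    haveI : D.Normal := (pCore_normal p _).comap _
    haveI : (D.comap jb).Normal := Subgroup.Normal.comap ‹D.Normal› jb
    have hcomp : IsPGroup p (D.comap jb) := by
      have : D.comap jb = (pCore p (_ ⧸ centralizer (Q0 : Set (Y ⧸ N.map ι)))).comap
          ((QuotientGroup.mk' _).comp jb) := rfl
      rw [this]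
      refine (CfsgLib.Base.isPGroup_pCore p _).comap_of_ker_isPGroup _ ?_
      refine (CfsgLib.Base.isPGroup_pCore p (G ⧸ N)).to_le fun x hx => hc ?_
      have hx' : jb x ∈ centralizer (Q0 : Set (Y ⧸ N.map ι)) := (QuotientGroup.eq_one_iff _).1 hx
      exact mem_centralizer_iff.2 fun q hq => hjb (by
        rw [map_mul, map_mul]; exact mem_centralizer_iff.1 hx' _ (mem_map_of_mem jb hq))
    intro z hz
    obtain ⟨x, rfl⟩ : z ∈ jb.range := hjbr.ge (hPj (CfsgLib.PLocal.maxCenter_le 0 _ hz))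
    exact mem_map_of_mem jb (CfsgLib.Base.le_pCore hcomp (hq hz))
  haveI : (Z.map j).Normal := by
    have h := CfsgLib.PLocal.maxCenter_inf_normal (e := 0) (by omega) (Or.inr rfl) hqs P _ Q0 rfl hQ0p
    rw [inf_eq_left.2 hZP] at h
    rwa [hmap]
  have hfin : (normalizer (Z : Set G)).map (QuotientGroup.mk' N) = ⊤ := by
    rw [CfsgLib.PLocal.map_normalizer_mk' N hN (S.2.to_le hZS), normalizer_eq_top_iff]
    have : Z.map (QuotientGroup.mk' N) = (Z.map j).comap jb := by
      have e : Z.map j = (Z.map (QuotientGroup.mk' N)).map jb := by rw [Subgroup.map_map]; rfl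
      rw [e, Subgroup.comap_map_eq_self_of_injective hjb]
    rw [this]
    exact Subgroup.Normal.comap inferInstance jb
  have e3 := comap_map_eq (QuotientGroup.mk' N) (normalizer (Z : Set G))
  rw [hfin, comap_top, QuotientGroup.ker_mk', sup_comm] at e3
  exact e3.symm

end CfsgLib.Flavell
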